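import Cfsg.Agent.Lib.T3.CoC

/-! The third Conway group: more facts on the normaliser of a four-group (generated data, helper3). -/

set_option autoImplicit false
set_option maxRecDepth 1000000
set_option maxHeartbeats 0

namespace Cfsg.Lib.T3.Co

open Cfsg.Lib.Calc Cfsg.Lib.Grp Cfsg.Lib.T2 Cfsg.Lib.T3
open Cfsg.Lib.McR (zz uu yy)

/-- a formula -/
def M_g1_f : Fm := .all 1 40 [(.mul (.mul (.l 1) (.l 8)) (.l 9), .mul (.mul (.l 1) (.l 8)) (.l 9)), (.l 3, .l 3)] (.or (.one (.l 40)) (.or (.eq (.l 40) (.pow (.mul (.l 1) (.l 3)) 2)) (.or (.eq (.l 40) (.pow (.mul (.l 1) (.mul (.mul (.l 2) (.l 3)) (.l 2))) 2)) (.eq (.l 40) (.mul (.pow (.mul (.l 1) (.l 3)) 2) (.pow (.mul (.l 1) (.mul (.mul (.l 2) (.l 3)) (.l 2))) 2))))))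

theorem M_g1_ev : M.eval M_g1_f = true := by decide +kernel

theorem M_g1 {G : Type*} [Group G] {γ : ℕ → G} {k : ℕ} {N : List W} (g : Gf M γ k N)
    (e : tyB M k N M_g1_f = true := by decide +kernel) :
    ∀ d ∈ genW γ (M.ws 1), d * (γ 1 * γ 8 * γ 9) = γ 1 * γ 8 * γ 9 * d → d * γ 3 = γ 3 * d → d = 1 ∨ d = zz γ ∨ d = uu γ ∨ d = zz γ * uu γ :=
  g.transfer e M_g1_ev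

/-- a formula -/
def M_g2_f : Fm := .all 1 40 [(.mul (.l 2) (.l 9), .mul (.l 2) (.l 9)), (.l 2, .l 2)] (.or (.one (.l 40)) (.or (.eq (.l 40) (.pow (.mul (.l 1) (.l 3)) 2)) (.or (.eq (.l 40) (.mul (.l 5) (.l 9))) (.eq (.l 40) (.mul (.pow (.mul (.l 1) (.l 3)) 2) (.mul (.l 5) (.l 9)))))))

theorem M_g2_ev : M.eval M_g2_f = true := by decide +kernel

theorem M_g2 {G : Type*} [Group G] {γ : ℕ → G} {k : ℕ} {N : List W} (g : Gf M γ k N)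
    (e : tyB M k N M_g2_f = true := by decide +kernel) :
    ∀ d ∈ genW γ (M.ws 1), d * (γ 2 * γ 9) = γ 2 * γ 9 * d → d * γ 2 = γ 2 * d → d = 1 ∨ d = zz γ ∨ d = ww γ ∨ d = zz γ * ww γ :=
  g.transfer e M_g2_ev

/-- a formula -/
def M_g3_f : Fm := .all 1 40 [(.mul (.mul (.mul (.mul (.l 2) (.l 1)) (.l 5)) (.l 3)) (.l 2), .mul (.mul (.mul (.mul (.l 2) (.l 1)) (.l 5)) (.l 3)) (.l 2)), (.mul (.mul (.mul (.mul (.mul (.l 1) (.l 2)) (.l 8)) (.l 3)) (.l 5)) (.l 8), .mul (.mul (.mul (.mul (.mul (.l 1) (.l 2)) (.l 8)) (.l 3)) (.l 5)) (.l 8))] (.or (.one (.l 40)) (.or (.eq (.l 40) (.pow (.mul (.l 1) (.l 3)) 2)) (.or (.eq (.l 40) (.mul (.l 1) (.l 3))) (.eq (.l 40) (.mul (.pow (.mul (.l 1) (.l 3)) 2) (.mul (.l 1) (.l 3)))))))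

theorem M_g3_ev : M.eval M_g3_f = true := by decide +kernel

theorem M_g3 {G : Type*} [Group G] {γ : ℕ → G} {k : ℕ} {N : List W} (g : Gf M γ k N)
    (e : tyB M k N M_g3_f = true := by decide +kernel) :
    ∀ d ∈ genW γ (M.ws 1), d * (γ 2 * γ 1 * γ 5 * γ 3 * γ 2) = γ 2 * γ 1 * γ 5 * γ 3 * γ 2 * d → d * (γ 1 * γ 2 * γ 8 * γ 3 * γ 5 * γ 8) = γ 1 * γ 2 * γ 8 * γ 3 * γ 5 * γ 8 * d → d = 1 ∨ d = zz γ ∨ d = γ 1 * γ 3 ∨ d = zz γ * (γ 1 * γ 3) :=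
  g.transfer e M_g3_ev

/-- a formula -/
def M_g4_f : Fm := .all 1 40 [(.mul (.mul (.l 2) (.l 8)) (.l 9), .mul (.mul (.l 2) (.l 8)) (.l 9)), (.mul (.mul (.l 5) (.l 1)) (.l 9), .mul (.mul (.l 5) (.l 1)) (.l 9))] (.or (.one (.l 40)) (.or (.eq (.l 40) (.pow (.mul (.l 1) (.l 3)) 2)) (.or (.eq (.l 40) (.mul (.mul (.mul (.mul (.l 1) (.l 3)) (.l 8)) (.l 3)) (.l 8))) (.eq (.l 40) (.mul (.pow (.mul (.l 1) (.l 3)) 2) (.mul (.mul (.mul (.mul (.l 1) (.l 3)) (.l 8)) (.l 3)) (.l 8)))))))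

theorem M_g4_ev : M.eval M_g4_f = true := by decide +kernel

theorem M_g4 {G : Type*} [Group G] {γ : ℕ → G} {k : ℕ} {N : List W} (g : Gf M γ k N)
    (e : tyB M k N M_g4_f = true := by decide +kernel) :
    ∀ d ∈ genW γ (M.ws 1), d * (γ 2 * γ 8 * γ 9) = γ 2 * γ 8 * γ 9 * d → d * (γ 5 * γ 1 * γ 9) = γ 5 * γ 1 * γ 9 * d → d = 1 ∨ d = zz γ ∨ d = γ 1 * γ 3 * γ 8 * γ 3 * γ 8 ∨ d = zz γ * (γ 1 * γ 3 * γ 8 * γ 3 * γ 8) :=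
  g.transfer e M_g4_ev

/-- a formula -/
def M_g5_f : Fm := .lt 40 (.pow (.mul (.l 1) (.l 3)) 2) (.lt 41 (.mul (.l 3) (.l 1)) (.lt 42 (.mul (.mul (.mul (.mul (.l 1) (.l 3)) (.l 8)) (.l 3)) (.l 8)) (.lt 43 (.mul (.mul (.mul (.mul (.mul (.mul (.l 1) (.l 3)) (.l 8)) (.l 9)) (.l 1)) (.l 9)) (.l 8)) (.lt 44 (.mul (.mul (.mul (.mul (.mul (.mul (.l 1) (.l 9)) (.l 1)) (.l 9)) (.l 8)) (.l 3)) (.l 8)) (.lt 45 (.mul (.mul (.mul (.mul (.mul (.mul (.l 3) (.l 8)) (.l 3)) (.l 2)) (.l 1)) (.l 2)) (.l 8)) (.lt 46 (.mul (.mul (.l 8) (.l 3)) (.l 8)) (.all 2 47 [] (.imp (.not (.one (.mul (.l 47) (.l 47)))) (.imp (.not (.eq (.mul (.l 47) (.l 47)) (.l 40))) (.imp (.or (.one (.mul (.mul (.l 47) (.l 47)) (.mul (.l 47) (.l 47)))) (.eq (.mul (.mul (.l 47)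 (.l 47)) (.mul (.l 47) (.l 47))) (.l 40))) (.or (.and (.eq (.mul (.l 41) (.mul (.l 47) (.l 47))) (.mul (.mul (.l 47) (.l 47)) (.l 41))) (.and (.not (.eq (.mul (.l 41) (.l 47)) (.mul (.l 47) (.l 41)))) (.and (.one (.pow (.mul (.mul (.mul (.l 41) (.l 47)) (.pow (.l 41) 3)) (.pow (.l 47) 7)) 4)) (.one (.pow (.l 41) 4))))) (.or (.and (.eq (.mul (.l 42) (.mul (.l 47) (.l 47))) (.mul (.mul (.l 47) (.l 47)) (.l 42))) (.and (.not (.eq (.mul (.l 42) (.l 47)) (.mul (.l 47) (.l 42)))) (.and (.one (.pow (.mul (.mul (.mul (.l 42) (.l 47)) (.pow (.l 42) 3)) (.pow (.l 47) 7)) 4)) (.one (.pow (.l 42) 4))))) (.or (.and (.eq (.mul (.l 43) (.mul (.l 47) (.l 47))) (.mul (.mul (.l 47) (.l 47)) (.l 43))) (.and (.not (.eq (.mul (.l 43) (.l 47)) (.mul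 (.l 47) (.l 43)))) (.and (.one (.pow (.mul (.mul (.mul (.l 43) (.l 47)) (.pow (.l 43) 3)) (.pow (.l 47) 7)) 4)) (.one (.pow (.l 43) 4))))) (.or (.and (.eq (.mul (.l 44) (.mul (.l 47) (.l 47))) (.mul (.mul (.l 47) (.l 47)) (.l 44))) (.and (.not (.eq (.mul (.l 44) (.l 47)) (.mul (.l 47) (.l 44)))) (.and (.one (.pow (.mul (.mul (.mul (.l 44) (.l 47)) (.pow (.l 44) 3)) (.pow (.l 47) 7)) 4)) (.one (.pow (.l 44) 4))))) (.or (.and (.eq (.mul (.l 45) (.mul (.l 47) (.l 47))) (.mul (.mul (.l 47) (.l 47)) (.l 45))) (.and (.not (.eq (.mul (.l 45) (.l 47)) (.mul (.l 47) (.l 45)))) (.and (.one (.pow (.mul (.mul (.mul (.l 45) (.l 47)) (.pow (.l 45) 3)) (.pow (.l 47) 7)) 4)) (.one (.pow (.l 45) 4))))) (.and (.eq (.mul (.l 46) (.mul (.l 47) (.l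 47))) (.mul (.mul (.l 47) (.l 47)) (.l 46))) (.and (.not (.eq (.mul (.l 46) (.l 47)) (.mul (.l 47) (.l 46)))) (.and (.one (.pow (.mul (.mul (.mul (.l 46) (.l 47)) (.pow (.l 46) 3)) (.pow (.l 47) 7)) 4)) (.one (.pow (.l 46) 4))))))))))))))))))))

theorem M_g5_ev : M.eval M_g5_f = true := by decide +kernel

theorem M_g5 {G : Type*} [Group G] {γ : ℕ → G} {k : ℕ} {N : List W} (g : Gf M γ k N)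
    (e : tyB M k N M_g5_f = true := by decide +kernel) :
    ∀ d ∈ genW γ (M.ws 2), d * d ≠ 1 → d * d ≠ zz γ → d * d * (d * d) = 1 ∨ d * d * (d * d) = zz γ → γ 3 * γ 1 * (d * d) = d * d * (γ 3 * γ 1) ∧ γ 3 * γ 1 * d ≠ d * (γ 3 * γ 1) ∧ (γ 3 * γ 1 * d * (γ 3 * γ 1) ^ 3 * d ^ 7) ^ 4 = 1 ∧ (γ 3 * γ 1) ^ 4 = 1 ∨ γ 1 * γ 3 * γ 8 * γ 3 * γ 8 * (d * d) = d * d * (γ 1 * γ 3 * γ 8 * γ 3 * γ 8) ∧ γ 1 * γ 3 * γ 8 * γ 3 * γ 8 * d ≠ d * (γ 1 * γ 3 * γ 8 * γ 3 * γ 8) ∧ (γ 1 * γ 3 * γ 8 * γ 3 * γ 8 * d * (γ 1 * γ 3 * γ 8 * γ 3 * γ 8) ^ 3 * d ^ 7) ^ 4 = 1 ∧ (γ 1 * γ 3 * γ 8 * γ 3 * γ 8) ^ 4 = 1 ∨ γ 1 * γ 3 * γ 8 * γ 9 * γ 1 * γ 9 * γ 8 * (d * d) = d * d * (γ 1 * γ 3 * γ 8 * γ 9 * γ 1 * γ 9 * γ 8) ∧ γ 1 * γ 3 * γ 8 * γ 9 * γ 1 * γ 9 * γ 8 * d ≠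 d * (γ 1 * γ 3 * γ 8 * γ 9 * γ 1 * γ 9 * γ 8) ∧ (γ 1 * γ 3 * γ 8 * γ 9 * γ 1 * γ 9 * γ 8 * d * (γ 1 * γ 3 * γ 8 * γ 9 * γ 1 * γ 9 * γ 8) ^ 3 * d ^ 7) ^ 4 = 1 ∧ (γ 1 * γ 3 * γ 8 * γ 9 * γ 1 * γ 9 * γ 8) ^ 4 = 1 ∨ γ 1 * γ 9 * γ 1 * γ 9 * γ 8 * γ 3 * γ 8 * (d * d) = d * d * (γ 1 * γ 9 * γ 1 * γ 9 * γ 8 * γ 3 * γ 8) ∧ γ 1 * γ 9 * γ 1 * γ 9 * γ 8 * γ 3 * γ 8 * d ≠ d * (γ 1 * γ 9 * γ 1 * γ 9 * γ 8 * γ 3 * γ 8) ∧ (γ 1 * γ 9 * γ 1 * γ 9 * γ 8 * γ 3 * γ 8 * d * (γ 1 * γ 9 * γ 1 * γ 9 * γ 8 * γ 3 * γ 8) ^ 3 * d ^ 7) ^ 4 = 1 ∧ (γ 1 * γ 9 * γ 1 * γ 9 * γ 8 * γ 3 * γ 8) ^ 4 = 1 ∨ γ 3 * γ 8 * γ 3 * γ 2 * γ 1 * γ 2 * γ 8 * (d * d) = d * d * (γ 3 * γ 8 * γ 3 * γ 2 * γ 1 * γ 2 * γ 8) ∧ γ 3 * γ 8 * γ 3 * γ 2 * γ 1 * γ 2 * γ 8 * d ≠ d * (γ 3 * γ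 8 * γ 3 * γ 2 * γ 1 * γ 2 * γ 8) ∧ (γ 3 * γ 8 * γ 3 * γ 2 * γ 1 * γ 2 * γ 8 * d * (γ 3 * γ 8 * γ 3 * γ 2 * γ 1 * γ 2 * γ 8) ^ 3 * d ^ 7) ^ 4 = 1 ∧ (γ 3 * γ 8 * γ 3 * γ 2 * γ 1 * γ 2 * γ 8) ^ 4 = 1 ∨ γ 8 * γ 3 * γ 8 * (d * d) = d * d * (γ 8 * γ 3 * γ 8) ∧ γ 8 * γ 3 * γ 8 * d ≠ d * (γ 8 * γ 3 * γ 8) ∧ (γ 8 * γ 3 * γ 8 * d * (γ 8 * γ 3 * γ 8) ^ 3 * d ^ 7) ^ 4 = 1 ∧ (γ 8 * γ 3 * γ 8) ^ 4 = 1 :=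
  g.transfer e M_g5_ev

/-- a formula -/
def M_g6_f : Fm := .all 4 40 [] (.and (.not (.eq (.mul (.l 40) (.l 40)) (.mul (.l 5) (.l 9)))) (.not (.eq (.mul (.l 40) (.l 40)) (.mul (.mul (.l 5) (.l 9)) (.pow (.mul (.l 1) (.l 3)) 2)))))

theorem M_g6_ev : M.eval M_g6_f = true := by decide +kernel

theorem M_g6 {G : Type*} [Group G] {γ : ℕ → G} {k : ℕ} {N : List W} (g : Gf M γ k N)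
    (e : tyB M k N M_g6_f = true := by decide +kernel) :
    ∀ d ∈ genW γ (M.ws 4), d * d ≠ ww γ ∧ d * d ≠ ww γ * zz γ :=
  g.transfer e M_g6_ev

/-- a formula -/
def M_g7_f : Fm := .lt 40 (.pow (.mul (.l 1) (.l 3)) 2) (.lt 41 (.pow (.mul (.l 1) (.mul (.mul (.l 2) (.l 3)) (.l 2))) 2) (.lt 42 (.mul (.mul (.mul (.mul (.mul (.mul (.mul (.l 1) (.l 3)) (.mul (.l 5) (.l 2))) (.l 1)) (.l 8)) (.l 3)) (.mul (.l 5) (.l 2))) (.l 8)) (.lt 43 (.mul (.mul (.mul (.mul (.mul (.mul (.mul (.l 1) (.l 3)) (.l 8)) (.mul (.l 5) (.l 2))) (.l 1)) (.l 3)) (.l 8)) (.mul (.l 5) (.l 2))) (.all 2 44 [] (.imp (.or (.eq (.mul (.l 44) (.l 44)) (.l 41)) (.eq (.mul (.l 44) (.l 44)) (.mul (.l 41) (.l 40)))) (.or (.lt 45 (.mul (.mul (.mul (.mul (.l 8) (.l 9)) (.l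 44)) (.inv (.mul (.l 8) (.l 9)))) (.inv (.l 44))) (.and (.or (.one (.mul (.l 45) (.l 45))) (.eq (.mul (.l 45) (.l 45)) (.l 40))) (.and (.not (.one (.l 45))) (.and (.not (.eq (.l 45) (.l 40))) (.and (.not (.eq (.l 45) (.l 41))) (.not (.eq (.l 45) (.mul (.l 40) (.l 41))))))))) (.or (.lt 45 (.mul (.mul (.mul (.mul (.mul (.mul (.l 5) (.l 2)) (.l 8)) (.l 9)) (.l 44)) (.inv (.mul (.mul (.mul (.l 5) (.l 2)) (.l 8)) (.l 9)))) (.inv (.l 44))) (.and (.or (.one (.mul (.l 45) (.l 45))) (.eq (.mul (.l 45) (.l 45)) (.l 40))) (.and (.not (.one (.l 45))) (.and (.not (.eq (.l 45) (.l 40))) (.and (.not (.eq (.l 45) (.l 41))) (.not (.eq (.l 45) (.mul (.l 40) (.l 41))))))))) (.or (.or (.eq (.mul (.mul (.l 0) (.l 44)) (.inv (.l 0))) (.l 42)) (.or (.eq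 (.mul (.mul (.l 0) (.l 44)) (.inv (.l 0))) (.mul (.l 42) (.l 40))) (.or (.eq (.mul (.mul (.l 0) (.l 44)) (.inv (.l 0))) (.l 43)) (.eq (.mul (.mul (.l 0) (.l 44)) (.inv (.l 0))) (.mul (.l 43) (.l 40)))))) (.or (.or (.eq (.mul (.mul (.l 8) (.l 44)) (.inv (.l 8))) (.l 42)) (.or (.eq (.mul (.mul (.l 8) (.l 44)) (.inv (.l 8))) (.mul (.l 42) (.l 40))) (.or (.eq (.mul (.mul (.l 8) (.l 44)) (.inv (.l 8))) (.l 43)) (.eq (.mul (.mul (.l 8) (.l 44)) (.inv (.l 8))) (.mul (.l 43) (.l 40)))))) (.or (.or (.eq (.mul (.mul (.l 1) (.l 44)) (.inv (.l 1))) (.l 42)) (.or (.eq (.mul (.mul (.l 1) (.l 44)) (.inv (.l 1))) (.mul (.l 42) (.l 40))) (.or (.eq (.mul (.mul (.l 1) (.l 44)) (.inv (.l 1))) (.l 43)) (.eq (.mul (.mul (.l 1) (.l 44)) (.inv (.l 1)))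 (.mul (.l 43) (.l 40)))))) (.or (.or (.eq (.mul (.mul (.mul (.l 5) (.l 2)) (.l 44)) (.inv (.mul (.l 5) (.l 2)))) (.l 42)) (.or (.eq (.mul (.mul (.mul (.l 5) (.l 2)) (.l 44)) (.inv (.mul (.l 5) (.l 2)))) (.mul (.l 42) (.l 40))) (.or (.eq (.mul (.mul (.mul (.l 5) (.l 2)) (.l 44)) (.inv (.mul (.l 5) (.l 2)))) (.l 43)) (.eq (.mul (.mul (.mul (.l 5) (.l 2)) (.l 44)) (.inv (.mul (.l 5) (.l 2)))) (.mul (.l 43) (.l 40)))))) (.or (.or (.eq (.mul (.mul (.mul (.mul (.l 5) (.l 2)) (.l 9)) (.l 44)) (.inv (.mul (.mul (.l 5) (.l 2)) (.l 9)))) (.l 42)) (.or (.eq (.mul (.mul (.mul (.mul (.l 5) (.l 2)) (.l 9)) (.l 44)) (.inv (.mul (.mul (.l 5) (.l 2)) (.l 9)))) (.mul (.l 42) (.l 40))) (.or (.eq (.mul (.mul (.mul (.mul (.l 5) (.l 2)) (.l 9)) (.l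 44)) (.inv (.mul (.mul (.l 5) (.l 2)) (.l 9)))) (.l 43)) (.eq (.mul (.mul (.mul (.mul (.l 5) (.l 2)) (.l 9)) (.l 44)) (.inv (.mul (.mul (.l 5) (.l 2)) (.l 9)))) (.mul (.l 43) (.l 40)))))) (.or (.eq (.mul (.mul (.mul (.mul (.l 5) (.l 2)) (.mul (.l 5) (.l 2))) (.l 44)) (.inv (.mul (.mul (.l 5) (.l 2)) (.mul (.l 5) (.l 2))))) (.l 42)) (.or (.eq (.mul (.mul (.mul (.mul (.l 5) (.l 2)) (.mul (.l 5) (.l 2))) (.l 44)) (.inv (.mul (.mul (.l 5) (.l 2)) (.mul (.l 5) (.l 2))))) (.mul (.l 42) (.l 40))) (.or (.eq (.mul (.mul (.mul (.mul (.l 5) (.l 2)) (.mul (.l 5) (.l 2))) (.l 44)) (.inv (.mul (.mul (.l 5) (.l 2)) (.mul (.l 5) (.l 2))))) (.l 43)) (.eq (.mul (.mul (.mul (.mul (.l 5) (.l 2)) (.mul (.l 5) (.l 2))) (.l 44)) (.inv (.mul (.mul (.l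 5) (.l 2)) (.mul (.l 5) (.l 2))))) (.mul (.l 43) (.l 40))))))))))))))))))

theorem M_g7_ev : M.eval M_g7_f = true := by decide +kernel

theorem M_g7 {G : Type*} [Group G] {γ : ℕ → G} {k : ℕ} {N : List W} (g : Gf M γ k N)
    (e : tyB M k N M_g7_f = true := by decide +kernel) :
    ∀ d ∈ genW γ (M.ws 2), d * d = uu γ ∨ d * d = uu γ * zz γ → (tt γ * d * (tt γ)⁻¹ * d⁻¹ * (tt γ * d * (tt γ)⁻¹ * d⁻¹) = 1 ∨ tt γ * d * (tt γ)⁻¹ * d⁻¹ * (tt γ * d * (tt γ)⁻¹ * d⁻¹) = zz γ) ∧ tt γ * d * (tt γ)⁻¹ * d⁻¹ ≠ 1 ∧ tt γ * d * (tt γ)⁻¹ * d⁻¹ ≠ zz γ ∧ tt γ * d * (tt γ)⁻¹ * d⁻¹ ≠ uu γ ∧ tt γ * d * (tt γ)⁻¹ * d⁻¹ ≠ zz γ * uu γ ∨ (yy γ * γ 8 * γ 9 * d * (yy γ * γ 8 * γ 9)⁻¹ * d⁻¹ * (yy γ * γ 8 * γ 9 * d * (yy γ * γ 8 * γ 9)⁻¹ * d⁻¹) = 1 ∨ yy γ * γ 8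 * γ 9 * d * (yy γ * γ 8 * γ 9)⁻¹ * d⁻¹ * (yy γ * γ 8 * γ 9 * d * (yy γ * γ 8 * γ 9)⁻¹ * d⁻¹) = zz γ) ∧ yy γ * γ 8 * γ 9 * d * (yy γ * γ 8 * γ 9)⁻¹ * d⁻¹ ≠ 1 ∧ yy γ * γ 8 * γ 9 * d * (yy γ * γ 8 * γ 9)⁻¹ * d⁻¹ ≠ zz γ ∧ yy γ * γ 8 * γ 9 * d * (yy γ * γ 8 * γ 9)⁻¹ * d⁻¹ ≠ uu γ ∧ yy γ * γ 8 * γ 9 * d * (yy γ * γ 8 * γ 9)⁻¹ * d⁻¹ ≠ zz γ * uu γ ∨ (γ 0 * d * (γ 0)⁻¹ = γ 1 * γ 3 * yy γ * γ 1 * γ 8 * γ 3 * yy γ * γ 8 ∨ γ 0 * d * (γ 0)⁻¹ = γ 1 * γ 3 * yy γ * γ 1 * γ 8 * γ 3 * yy γ * γ 8 * zz γ ∨ γ 0 * d * (γ 0)⁻¹ = γ 1 * γ 3 * γ 8 * yy γ * γ 1 * γ 3 * γ 8 * yy γ ∨ γ 0 * d * (γ 0)⁻¹ = γ 1 * γ 3 * γ 8 * yy γ * γ 1 * γ 3 * γ 8 * yy γ * zz γ) ∨ (γ 8 * d * (γ 8)⁻¹ = γ 1 * γ 3 * yy γ * γ 1 * γ 8 * γ 3 * yy γ * γ 8 ∨ γ 8 * d * (γ 8)⁻¹ = γ 1 * γ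 3 * yy γ * γ 1 * γ 8 * γ 3 * yy γ * γ 8 * zz γ ∨ γ 8 * d * (γ 8)⁻¹ = γ 1 * γ 3 * γ 8 * yy γ * γ 1 * γ 3 * γ 8 * yy γ ∨ γ 8 * d * (γ 8)⁻¹ = γ 1 * γ 3 * γ 8 * yy γ * γ 1 * γ 3 * γ 8 * yy γ * zz γ) ∨ (γ 1 * d * (γ 1)⁻¹ = γ 1 * γ 3 * yy γ * γ 1 * γ 8 * γ 3 * yy γ * γ 8 ∨ γ 1 * d * (γ 1)⁻¹ = γ 1 * γ 3 * yy γ * γ 1 * γ 8 * γ 3 * yy γ * γ 8 * zz γ ∨ γ 1 * d * (γ 1)⁻¹ = γ 1 * γ 3 * γ 8 * yy γ * γ 1 * γ 3 * γ 8 * yy γ ∨ γ 1 * d * (γ 1)⁻¹ = γ 1 * γ 3 * γ 8 * yy γ * γ 1 * γ 3 * γ 8 * yy γ * zz γ) ∨ (yy γ * d * (yy γ)⁻¹ = γ 1 * γ 3 * yy γ * γ 1 * γ 8 * γ 3 * yy γ * γ 8 ∨ yy γ * d * (yy γ)⁻¹ = γ 1 * γ 3 * yy γ * γ 1 * γ 8 * γ 3 * yy γ * γ 8 * zz γ ∨ yy γ * d * (yy γ)⁻¹ = γ 1 * γ 3 * γ 8 * yy γ * γ 1 * γ 3 * γ 8 * yy γ ∨ yy γ * d * (yy γ)⁻¹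 = γ 1 * γ 3 * γ 8 * yy γ * γ 1 * γ 3 * γ 8 * yy γ * zz γ) ∨ (yy γ * γ 9 * d * (yy γ * γ 9)⁻¹ = γ 1 * γ 3 * yy γ * γ 1 * γ 8 * γ 3 * yy γ * γ 8 ∨ yy γ * γ 9 * d * (yy γ * γ 9)⁻¹ = γ 1 * γ 3 * yy γ * γ 1 * γ 8 * γ 3 * yy γ * γ 8 * zz γ ∨ yy γ * γ 9 * d * (yy γ * γ 9)⁻¹ = γ 1 * γ 3 * γ 8 * yy γ * γ 1 * γ 3 * γ 8 * yy γ ∨ yy γ * γ 9 * d * (yy γ * γ 9)⁻¹ = γ 1 * γ 3 * γ 8 * yy γ * γ 1 * γ 3 * γ 8 * yy γ * zz γ) ∨ yy γ * yy γ * d * (yy γ * yy γ)⁻¹ = γ 1 * γ 3 * yy γ * γ 1 * γ 8 * γ 3 * yy γ * γ 8 ∨ yy γ * yy γ * d * (yy γ * yy γ)⁻¹ = γ 1 * γ 3 * yy γ * γ 1 * γ 8 * γ 3 * yy γ * γ 8 * zz γ ∨ yy γ * yy γ * d * (yy γ * yy γ)⁻¹ = γ 1 * γ 3 * γ 8 * yy γ * γ 1 * γ 3 * γ 8 * yy γ ∨ yy γ * yy γ * d * (yy γ * yy γ)⁻¹ = γ 1 * γ 3 * γ 8 * yy γ *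 γ 1 * γ 3 * γ 8 * yy γ * zz γ :=
  g.transfer e M_g7_ev

/-- a formula -/
def M_g8_f : Fm := .lt 40 (.pow (.mul (.l 1) (.l 3)) 2) (.lt 41 (.pow (.mul (.l 1) (.mul (.mul (.l 2) (.l 3)) (.l 2))) 2) (.lt 42 (.mul (.mul (.mul (.mul (.mul (.mul (.mul (.l 1) (.l 3)) (.mul (.l 5) (.l 2))) (.l 1)) (.l 8)) (.l 3)) (.mul (.l 5) (.l 2))) (.l 8)) (.lt 43 (.mul (.mul (.mul (.l 5) (.l 2)) (.l 42)) (.inv (.mul (.l 5) (.l 2)))) (.all 2 44 [] (.imp (.or (.eq (.mul (.l 44) (.l 42)) (.mul (.l 43) (.l 44))) (.eq (.mul (.l 44) (.l 42)) (.mul (.mul (.l 43) (.l 40)) (.l 44)))) (.or (.lt 45 (.mul (.mul (.mul (.l 44) (.l 1)) (.inv (.l 44))) (.inv (.l 1))) (.and (.or (.one (.mul (.l 45) (.l 45))) (.eq (.mul (.l 45) (.l 45)) (.l 40))) (.and (.not (.one (.l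 45))) (.and (.not (.eq (.l 45) (.l 40))) (.and (.not (.eq (.l 45) (.l 41))) (.not (.eq (.l 45) (.mul (.l 40) (.l 41))))))))) (.lt 45 (.mul (.mul (.mul (.mul (.l 44) (.mul (.mul (.mul (.l 3) (.l 9)) (.l 1)) (.l 9))) (.inv (.l 44))) (.inv (.mul (.mul (.mul (.l 3) (.l 9)) (.l 1)) (.l 9)))) (.l 42)) (.and (.or (.one (.mul (.l 45) (.l 45))) (.eq (.mul (.l 45) (.l 45)) (.l 40))) (.and (.not (.one (.l 45))) (.and (.not (.eq (.l 45) (.l 40))) (.and (.not (.eq (.l 45) (.l 41))) (.not (.eq (.l 45) (.mul (.l 40) (.l 41)))))))))))))))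

theorem M_g8_ev : M.eval M_g8_f = true := by decide +kernel

theorem M_g8 {G : Type*} [Group G] {γ : ℕ → G} {k : ℕ} {N : List W} (g : Gf M γ k N)
    (e : tyB M k N M_g8_f = true := by decide +kernel) :
    ∀ d ∈ genW γ (M.ws 2), d * (γ 1 * γ 3 * yy γ * γ 1 * γ 8 * γ 3 * yy γ * γ 8) = yy γ * (γ 1 * γ 3 * yy γ * γ 1 * γ 8 * γ 3 * yy γ * γ 8) * (yy γ)⁻¹ * d ∨ d * (γ 1 * γ 3 * yy γ * γ 1 * γ 8 * γ 3 * yy γ * γ 8) = yy γ * (γ 1 * γ 3 * yy γ * γ 1 * γ 8 * γ 3 * yy γ * γ 8) * (yy γ)⁻¹ * zz γ * d → (d * γ 1 * d⁻¹ * (γ 1)⁻¹ * (d * γ 1 * d⁻¹ * (γ 1)⁻¹) = 1 ∨ d * γ 1 * d⁻¹ * (γ 1)⁻¹ * (d * γ 1 * d⁻¹ * (γ 1)⁻¹) = zz γ) ∧ d * γ 1 * d⁻¹ * (γ 1)⁻¹ ≠ 1 ∧ d * γ 1 * d⁻¹ * (γ 1)⁻¹ ≠ zz γ ∧ d * γ 1 * d⁻¹ * (γ 1)⁻¹ ≠ uu γ ∧ d * γ 1 * d⁻¹ * (γ 1)⁻¹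 ≠ zz γ * uu γ ∨ (d * (γ 3 * γ 9 * γ 1 * γ 9) * d⁻¹ * (γ 3 * γ 9 * γ 1 * γ 9)⁻¹ * (γ 1 * γ 3 * yy γ * γ 1 * γ 8 * γ 3 * yy γ * γ 8) * (d * (γ 3 * γ 9 * γ 1 * γ 9) * d⁻¹ * (γ 3 * γ 9 * γ 1 * γ 9)⁻¹ * (γ 1 * γ 3 * yy γ * γ 1 * γ 8 * γ 3 * yy γ * γ 8)) = 1 ∨ d * (γ 3 * γ 9 * γ 1 * γ 9) * d⁻¹ * (γ 3 * γ 9 * γ 1 * γ 9)⁻¹ * (γ 1 * γ 3 * yy γ * γ 1 * γ 8 * γ 3 * yy γ * γ 8) * (d * (γ 3 * γ 9 * γ 1 * γ 9) * d⁻¹ * (γ 3 * γ 9 * γ 1 * γ 9)⁻¹ * (γ 1 * γ 3 * yy γ * γ 1 * γ 8 * γ 3 * yy γ * γ 8)) = zz γ) ∧ d * (γ 3 * γ 9 * γ 1 * γ 9) * d⁻¹ * (γ 3 * γ 9 * γ 1 * γ 9)⁻¹ * (γ 1 * γ 3 * yy γ * γ 1 * γ 8 * γ 3 * yy γ * γ 8) ≠ 1 ∧ d * (γ 3 * γ 9 * γ 1 * γ 9) * d⁻¹ * (γ 3 * γ 9 * γ 1 * γ 9)⁻¹ * (γ 1 * γ 3 * yy γ * γ 1 * γ 8 * γ 3 * yy γ * γ 8) ≠ zz γ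 ∧ d * (γ 3 * γ 9 * γ 1 * γ 9) * d⁻¹ * (γ 3 * γ 9 * γ 1 * γ 9)⁻¹ * (γ 1 * γ 3 * yy γ * γ 1 * γ 8 * γ 3 * yy γ * γ 8) ≠ uu γ ∧ d * (γ 3 * γ 9 * γ 1 * γ 9) * d⁻¹ * (γ 3 * γ 9 * γ 1 * γ 9)⁻¹ * (γ 1 * γ 3 * yy γ * γ 1 * γ 8 * γ 3 * yy γ * γ 8) ≠ zz γ * uu γ :=
  g.transfer e M_g8_ev

/-- a formula -/
def M_g9_f : Fm := .lt 40 (.pow (.mul (.l 1) (.l 3)) 2) (.lt 41 (.pow (.mul (.l 1) (.mul (.mul (.l 2) (.l 3)) (.l 2))) 2) (.lt 42 (.mul (.mul (.mul (.mul (.mul (.mul (.mul (.l 1) (.l 3)) (.l 8)) (.mul (.l 5) (.l 2))) (.l 1)) (.l 3)) (.l 8)) (.mul (.l 5) (.l 2))) (.lt 43 (.mul (.mul (.mul (.l 5) (.l 2)) (.l 42)) (.inv (.mul (.l 5) (.l 2)))) (.all 2 44 [] (.imp (.or (.eq (.mul (.l 44) (.l 42)) (.mul (.l 43) (.l 44))) (.eq (.mul (.l 44) (.l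 42)) (.mul (.mul (.l 43) (.l 40)) (.l 44)))) (.or (.lt 45 (.mul (.mul (.mul (.mul (.l 44) (.l 1)) (.inv (.l 44))) (.inv (.l 1))) (.l 42)) (.and (.or (.one (.mul (.l 45) (.l 45))) (.eq (.mul (.l 45) (.l 45)) (.l 40))) (.and (.not (.one (.l 45))) (.and (.not (.eq (.l 45) (.l 40))) (.and (.not (.eq (.l 45) (.l 41))) (.not (.eq (.l 45) (.mul (.l 40) (.l 41))))))))) (.lt 45 (.mul (.mul (.mul (.mul (.l 44) (.mul (.mul (.l 8) (.l 3)) (.l 8))) (.inv (.l 44))) (.inv (.mul (.mul (.l 8) (.l 3)) (.l 8)))) (.l 42)) (.and (.or (.one (.mul (.l 45) (.l 45))) (.eq (.mul (.l 45) (.l 45)) (.l 40))) (.and (.not (.one (.l 45))) (.and (.not (.eq (.l 45) (.l 40))) (.and (.not (.eq (.l 45) (.l 41))) (.not (.eq (.l 45) (.mul (.l 40) (.l 41)))))))))))))))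

theorem M_g9_ev : M.eval M_g9_f = true := by decide +kernel

theorem M_g9 {G : Type*} [Group G] {γ : ℕ → G} {k : ℕ} {N : List W} (g : Gf M γ k N)
    (e : tyB M k N M_g9_f = true := by decide +kernel) :
    ∀ d ∈ genW γ (M.ws 2), d * (γ 1 * γ 3 * γ 8 * yy γ * γ 1 * γ 3 * γ 8 * yy γ) = yy γ * (γ 1 * γ 3 * γ 8 * yy γ * γ 1 * γ 3 * γ 8 * yy γ) * (yy γ)⁻¹ * d ∨ d * (γ 1 * γ 3 * γ 8 * yy γ * γ 1 * γ 3 * γ 8 * yy γ) = yy γ * (γ 1 * γ 3 * γ 8 * yy γ * γ 1 * γ 3 * γ 8 * yy γ) * (yy γ)⁻¹ * zz γ * d → (d * γ 1 * d⁻¹ * (γ 1)⁻¹ * (γ 1 * γ 3 * γ 8 * yy γ * γ 1 * γ 3 * γ 8 * yy γ) * (d * γ 1 * d⁻¹ * (γ 1)⁻¹ * (γ 1 * γ 3 * γ 8 * yy γ * γ 1 * γ 3 * γ 8 * yy γ)) = 1 ∨ d * γ 1 * d⁻¹ * (γ 1)⁻¹ * (γ 1 * γ 3 * γ 8 * yy γ * γ 1 * γ 3 * γ 8 * yy γ)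 * (d * γ 1 * d⁻¹ * (γ 1)⁻¹ * (γ 1 * γ 3 * γ 8 * yy γ * γ 1 * γ 3 * γ 8 * yy γ)) = zz γ) ∧ d * γ 1 * d⁻¹ * (γ 1)⁻¹ * (γ 1 * γ 3 * γ 8 * yy γ * γ 1 * γ 3 * γ 8 * yy γ) ≠ 1 ∧ d * γ 1 * d⁻¹ * (γ 1)⁻¹ * (γ 1 * γ 3 * γ 8 * yy γ * γ 1 * γ 3 * γ 8 * yy γ) ≠ zz γ ∧ d * γ 1 * d⁻¹ * (γ 1)⁻¹ * (γ 1 * γ 3 * γ 8 * yy γ * γ 1 * γ 3 * γ 8 * yy γ) ≠ uu γ ∧ d * γ 1 * d⁻¹ * (γ 1)⁻¹ * (γ 1 * γ 3 * γ 8 * yy γ * γ 1 * γ 3 * γ 8 * yy γ) ≠ zz γ * uu γ ∨ (d * (γ 8 * γ 3 * γ 8) * d⁻¹ * (γ 8 * γ 3 * γ 8)⁻¹ * (γ 1 * γ 3 * γ 8 * yy γ * γ 1 * γ 3 * γ 8 * yy γ) * (d * (γ 8 * γ 3 * γ 8) * d⁻¹ * (γ 8 * γ 3 * γ 8)⁻¹ * (γ 1 * γ 3 * γ 8 * yy γ * γ 1 * γ 3 * γ 8 * yy γ)) = 1 ∨ d * (γ 8 * γ 3 * γ 8) * d⁻¹ * (γ 8 * γ 3 * γ 8)⁻¹ * (γ 1 * γ 3 * γ 8 * yy γ * γ 1 * γ 3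 * γ 8 * yy γ) * (d * (γ 8 * γ 3 * γ 8) * d⁻¹ * (γ 8 * γ 3 * γ 8)⁻¹ * (γ 1 * γ 3 * γ 8 * yy γ * γ 1 * γ 3 * γ 8 * yy γ)) = zz γ) ∧ d * (γ 8 * γ 3 * γ 8) * d⁻¹ * (γ 8 * γ 3 * γ 8)⁻¹ * (γ 1 * γ 3 * γ 8 * yy γ * γ 1 * γ 3 * γ 8 * yy γ) ≠ 1 ∧ d * (γ 8 * γ 3 * γ 8) * d⁻¹ * (γ 8 * γ 3 * γ 8)⁻¹ * (γ 1 * γ 3 * γ 8 * yy γ * γ 1 * γ 3 * γ 8 * yy γ) ≠ zz γ ∧ d * (γ 8 * γ 3 * γ 8) * d⁻¹ * (γ 8 * γ 3 * γ 8)⁻¹ * (γ 1 * γ 3 * γ 8 * yy γ * γ 1 * γ 3 * γ 8 * yy γ) ≠ uu γ ∧ d * (γ 8 * γ 3 * γ 8) * d⁻¹ * (γ 8 * γ 3 * γ 8)⁻¹ * (γ 1 * γ 3 * γ 8 * yy γ * γ 1 * γ 3 * γ 8 * yy γ) ≠ zz γ * uu γ :=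
  g.transfer e M_g9_ev

end Cfsg.Lib.T3.Co
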